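import Groth.Agent.SigmaLin.Basic
import Mathlib

/-!
`q`-semilinear maps over separably closed fields of characteristic `p`.
-/

set_option autoImplicit false
universe u v

namespace Groth.Agent.QLin

open Module Groth.Agent.SigmaLin.Basic

variable {k : Type u} [Field k] {p : ℕ} [Fact p.Prime] [CharP k p] {r : ℕ}
variable {V : Type v} [AddCommGroup V] [Module k V]

theorem iterate_frob (n : ℕ) (c : k) :
    (⇑(iterateFrobenius k p r))^[n] c = c ^ (p ^ r) ^ n := by
  induction n with
  | zero => simp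
  | succ n ih => rw [Function.iterate_succ_apply', ih, iterateFrobenius_def, ← pow_mul, ← pow_succ]

/-- The semilinear map attached to a `q`-linear additive map. -/
noncomputable def toSemi (φ : V →+ V) (hφ : ∀ (c : k) (v : V), φ (c • v) = c ^ (p ^ r) • φ v) :
    V →ₛₗ[iterateFrobenius k p r] V where
  toFun := φ
  map_add' := map_add φ
  map_smul' c v := by rw [hφ, iterateFrobenius_def]

variable [IsSepClosed k]

omit [Fact p.Prime] [CharP k p] in
theorem exists_root_ne_zero (Q : Polynomial k) (hdeg : 0 < Q.natDegree) (hQ : (Polynomial.X * Q).Separable)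
    (h0 : Q.coeff 0 ≠ 0) : ∃ x, x ≠ 0 ∧ Q.eval x = 0 := by
  have hd : Q.degree ≠ 0 := fun h => by
    rw [Polynomial.natDegree_eq_of_degree_eq_some h] at hdeg
    exact lt_irrefl 0 hdeg
  obtain ⟨x, hx⟩ := IsSepClosed.exists_root Q hd hQ.of_mul_right
  refine ⟨x, fun h => h0 ?_, hx⟩
  rw [Polynomial.coeff_zero_eq_eval_zero]
  simpa [h] using hx

theorem artin_schreier (hr : 0 < r) (c : k) : ∃ y : k, iterateFrobenius k p r y - y + c = 0 := by
  have hq : 1 < p ^ r := Nat.one_lt_pow hr.ne' (Nat.Prime.one_lt Fact.out)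
  let P : Polynomial k := Polynomial.X ^ (p ^ r) - Polynomial.X + Polynomial.C c
  have hsep : P.Separable := by
    have : Polynomial.derivative P = Polynomial.C (-1 : k) := by
      simp [P, Polynomial.derivative_X_pow, CharP.cast_eq_zero k p, hr.ne']
    rw [Polynomial.separable_def, this]
    exact ⟨0, Polynomial.C (-1), by rw [zero_mul, zero_add, ← map_mul]; simp⟩
  have hd : P.natDegree = p ^ r := by
    rw [Polynomial.natDegree_add_C, Polynomial.natDegree_sub_eq_left_of_natDegree_lt] <;> simp [hq]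
  obtain ⟨y, hy⟩ := IsSepClosed.exists_root P
    (fun h => by
      rw [Polynomial.natDegree_eq_of_degree_eq_some (n := 0) h] at hd
      omega) hsep
  exact ⟨y, by simpa [P, iterateFrobenius_def] using hy⟩

theorem additive_poly (hr : 0 < r) (n : ℕ) (b : Fin (n + 1) → k) (hb : b ≠ 0) :
    ∃ x : k, x ≠ 0 ∧ x = ∑ i : Fin (n + 1), (⇑(iterateFrobenius k p r))^[i.val + 1] x *
      (⇑(iterateFrobenius k p r))^[i.val] (b (Fin.rev i)) := by
  classical
  set q := p ^ r
  have hq : 1 < q := Nat.one_lt_pow hr.ne' (Nat.Prime.one_lt Fact.out)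
  let a : Fin (n + 1) → k := fun i => (b (Fin.rev i)) ^ q ^ i.val
  have hpos : ∀ i : ℕ, 1 < q ^ (i + 1) := fun i => Nat.one_lt_pow (Nat.succ_ne_zero i) hq
  let Q : Polynomial k :=
    ∑ i : Fin (n + 1), Polynomial.C (a i) * Polynomial.X ^ (q ^ (i.val + 1) - 1) - Polynomial.C 1
  have hsum : ∑ i : Fin (n + 1), a i • (Polynomial.X ^ (q ^ (i.val + 1) - 1) : Polynomial k) * Polynomial.X =
      ∑ i : Fin (n + 1), Polynomial.C (a i) * Polynomial.X ^ (q ^ (i.val + 1)) :=
    Finset.sum_congr rfl fun i _ => by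
      rw [Polynomial.smul_eq_C_mul, mul_assoc, ← pow_succ, Nat.sub_add_cancel (hpos i).le]
  have hsep : (Polynomial.X * Q).Separable := by
    have hd : Polynomial.derivative (Polynomial.X * Q) = Polynomial.C (-1 : k) := by
      have e : Polynomial.X * Q = (∑ i : Fin (n + 1), Polynomial.C (a i) * Polynomial.X ^ (q ^ (i.val + 1))) - Polynomial.X := by
        rw [← hsum]
        simp only [Q, mul_sub, Finset.mul_sum, Polynomial.smul_eq_C_mul, map_one, mul_one]
        congr 1
        exact Finset.sum_congr rfl fun i _ => mul_comm _ _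
      have hz : ∀ i : ℕ, ((q ^ (i + 1) : ℕ) : k) = 0 := fun i => by
        simp [q, CharP.cast_eq_zero k p, hr.ne']
      simp [e, Polynomial.derivative_X_pow, Polynomial.derivative_sum, hz]
    rw [Polynomial.separable_def, hd]
    exact ⟨0, Polynomial.C (-1), by rw [zero_mul, zero_add, ← map_mul]; simp⟩
  have hinj : Function.Injective fun i : Fin (n + 1) => q ^ (i.val + 1) - 1 := fun i j h => by
    have h1 := hpos i; have h2 := hpos j
    have : q ^ (i.val + 1) = q ^ (j.val + 1) := by simp only at h; omega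
    exact Fin.ext (Nat.succ_injective (Nat.pow_right_injective hq this))
  obtain ⟨i₀, hi₀⟩ : ∃ i, a i ≠ 0 := by
    obtain ⟨i, hi⟩ := Function.ne_iff.mp hb
    exact ⟨Fin.rev i, by simp only [a, Fin.rev_rev]; exact pow_ne_zero _ hi⟩
  have hc : Q.coeff (q ^ (i₀.val + 1) - 1) ≠ 0 := by
    have h1 := hpos i₀.val
    simp only [Q, Polynomial.coeff_sub, Polynomial.finsetSum_coeff, Polynomial.coeff_C_mul,
      Polynomial.coeff_X_pow, Polynomial.coeff_C, if_neg (show q ^ (i₀.val + 1) - 1 ≠ 0 by omega), sub_zero]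
    rw [Finset.sum_eq_single i₀ (fun i _ hi => by rw [if_neg (fun h => hi (hinj h).symm), mul_zero]) (by simp)]
    simpa using hi₀
  have h0 : Q.coeff 0 ≠ 0 := by
    simp only [Q, Polynomial.coeff_sub, Polynomial.finsetSum_coeff, Polynomial.coeff_C_mul,
      Polynomial.coeff_X_pow, Polynomial.coeff_C, if_pos rfl]
    rw [Finset.sum_eq_zero fun i _ => by rw [if_neg (by have := hpos i.val; omega), mul_zero]]
    simp
  have hdeg : 0 < Q.natDegree := by
    have := Polynomial.le_natDegree_of_ne_zero hc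
    have := hpos i₀.val
    omega
  obtain ⟨x, hx0, hx⟩ := exists_root_ne_zero Q hdeg hsep h0
  refine ⟨x, hx0, ?_⟩
  have h := congrArg (x * ·) hx
  simp only [Q, mul_zero, Polynomial.eval_sub, Polynomial.eval_finsetSum, Polynomial.eval_mul, Polynomial.eval_C,
    Polynomial.eval_pow, Polynomial.eval_X, mul_sub, mul_one, Finset.mul_sum, sub_eq_zero] at h
  conv_lhs => rw [← h]
  refine Finset.sum_congr rfl fun i _ => ?_
  rw [iterate_frob, iterate_frob, mul_left_comm, ← pow_succ', Nat.sub_add_cancel (hpos i).le, mul_comm]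

theorem sub_surjective' (hr : 0 < r) [FiniteDimensional k V] (T : V →ₛₗ[iterateFrobenius k p r] V) :
    Function.Surjective (fun v : V => v - T v) := by
  intro f
  obtain ⟨N, hN⟩ := iInf_stage_eq T
  obtain ⟨b, hb⟩ := exists_fixed_basis_ss T (additive_poly hr) (artin_schreier hr)
  have hmem : (⇑T)^[N] f ∈ ⨅ m, stage T m := by
    rw [hN N le_rfl]
    exact Submodule.subset_span ⟨f, rfl⟩
  obtain ⟨z, hz⟩ := sub_surjective_of_fixed_basis (ssRestrict T) b (fun i => Subtype.ext (hb i))
    (artin_schreier hr) ⟨_, hmem⟩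
  have hz' : (z : V) - T z = (⇑T)^[N] f := congrArg Subtype.val hz
  refine ⟨∑ i ∈ Finset.range N, (⇑T)^[i] f + z, ?_⟩
  have htel : ∑ i ∈ Finset.range N, (⇑T)^[i] f - T (∑ i ∈ Finset.range N, (⇑T)^[i] f) = f - (⇑T)^[N] f := by
    rw [map_sum, ← Finset.sum_sub_distrib]
    simp only [← Function.iterate_succ_apply' (⇑T)]
    rw [Finset.sum_range_sub' (fun i => (⇑T)^[i] f), Function.iterate_zero_apply]
  simp only [map_add]
  rw [add_sub_add_comm, htel, hz', sub_add_cancel]

theorem repr_fixed {ι : Type*} [Fintype ι] (T : V →ₛₗ[iterateFrobenius k p r] V) (b : Basis ι k V)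
    (hb : ∀ i, T (b i) = b i) (n : ℕ) (v : V) :
    (⇑T)^[n] v = v ↔ ∀ i, (b.repr v i) ^ (p ^ r) ^ n = b.repr v i := by
  have hTb : ∀ i, (⇑T)^[n] (b i) = b i := fun i => Function.iterate_fixed (hb i) n
  have e : (⇑T)^[n] v = ∑ i, (b.repr v i) ^ (p ^ r) ^ n • b i := by
    conv_lhs => rw [← b.sum_repr v]
    rw [show (⇑T)^[n] = ⇑(AddMonoidHom.mk' ((⇑T)^[n]) (iterate_add T n)) from rfl, map_sum]
    refine Finset.sum_congr rfl fun i _ => ?_
    change (⇑T)^[n] (b.repr v i • b i) = _
    rw [iterate_smul, hTb, iterate_frob]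
  constructor
  · intro h i
    rw [e] at h
    have := congrArg (fun w => b.repr w i) h
    beta_reduce at this
    rwa [b.repr_sum_self] at this
  · intro h
    rw [e]
    conv_rhs => rw [← b.sum_repr v]
    exact Finset.sum_congr rfl fun i _ => by rw [h i]

end Groth.Agent.QLin
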